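import Mathlib

/-!
# Fixed vectors of commuting elements acting on a group of exponent two

`periodNorm r x v` is the product of the `x ^ i • v`, `i` mod `r`; for commuting `a`, `b` of
period `r` (`r` an odd prime) the norms of the `a * b ^ j` multiply to `v`, when the norm of `b`
kills `v`.
-/

set_option autoImplicit false
set_option linter.unusedSectionVars false

open scoped BigOperators

namespace CfsgLib.ExtremeAffine

variable {H V : Type*} [Group H] [CommGroup V] [MulDistribMulAction H V]

lemma sq_inv (h2 : ∀ v : V, v * v = 1) (v : V) : v⁻¹ = v :=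
  inv_eq_of_mul_eq_one_right (h2 v)

lemma pow_smul_mod {r : ℕ} {x : H} {v : V} (hx : x ^ r • v = v) (n : ℕ) :
    x ^ n • v = x ^ (n % r) • v := by
  have hk : ∀ k : ℕ, x ^ (r * k) • v = v := by
    intro k
    induction k with
    | zero => simp
    | succ k ih => rw [Nat.mul_succ, pow_add, mul_smul, hx, ih]
  conv_lhs => rw [← Nat.mod_add_div n r]
  rw [pow_add, mul_smul, hk]

/-- Product of the translates of `v` under powers of `x`, exponents mod `r`. -/
def periodNorm (r : ℕ) [NeZero r] (x : H) (v : V) : V :=
  ∏ i : ZMod r, x ^ i.val • v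

variable {r : ℕ} [NeZero r]

lemma periodNorm_mul (x : H) (v w : V) :
    periodNorm r x (v * w) = periodNorm r x v * periodNorm r x w := by
  simp [periodNorm, smul_mul', Finset.prod_mul_distrib]

lemma periodNorm_one (x : H) : periodNorm r x (1 : V) = 1 := by simp [periodNorm]

lemma periodNorm_of_fixed {x : H} {v : V} (hv : x • v = v) : periodNorm r x v = v ^ r := by
  have hk : ∀ k : ℕ, x ^ k • v = v := by
    intro k
    induction k with
    | zero => simp
    | succ k ih => rw [pow_succ, mul_smul, hv, ih]
  simp [periodNorm, hk, Finset.card_univ, ZMod.card]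

lemma periodNorm_comm {x y : H} (h : Commute x y) (v : V) :
    periodNorm r x (y • v) = y • periodNorm r x v := by
  rw [periodNorm, periodNorm, Finset.smul_prod' (r := y)]
  exact Finset.prod_congr rfl fun i _ => by rw [← mul_smul, ← mul_smul, (h.pow_left i.val).eq]

lemma smul_periodNorm [Fact (1 < r)] {x : H} {v : V} (hx : x ^ r • v = v) :
    x • periodNorm r x v = periodNorm r x v := by
  rw [periodNorm, Finset.smul_prod' (r := x)]
  refine Fintype.prod_equiv (Equiv.addRight (1 : ZMod r)) _ _ fun i => ?_
  rw [← mul_smul, ← pow_succ', pow_smul_mod hx (i.val + 1), Equiv.coe_addRight, ZMod.val_add,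
    ZMod.val_one]

lemma periodNorm_smul_self [Fact (1 < r)] {x : H} {v : V} (hx : x ^ r • v = v) :
    periodNorm r x (x • v) = periodNorm r x v := by
  rw [periodNorm_comm (Commute.refl x), smul_periodNorm hx]

/-- The norm of `x • v * v` vanishes in exponent two. -/
lemma periodNorm_diff [Fact (1 < r)] (h2 : ∀ v : V, v * v = 1) {x : H} {v : V}
    (hx : x ^ r • v = v) : periodNorm r x (x • v * v) = 1 := by
  rw [periodNorm_mul, periodNorm_smul_self hx, h2]

/-- The norms along the `a * b ^ j` multiply to `v`. -/
theorem prod_periodNorm [Fact r.Prime] (hodd : Odd r) (h2 : ∀ v : V, v * v = 1) {a b : H}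
    (hab : Commute a b) {v : V} (hb : b ^ r • v = v) (hN : periodNorm r b v = 1) :
    ∏ j : ZMod r, periodNorm r (a * b ^ j.val) v = v := by
  classical
  have hterm : ∀ i j : ZMod r,
      (a * b ^ j.val) ^ i.val • v = a ^ i.val • b ^ (i * j).val • v := by
    intro i j
    rw [(hab.pow_right j.val).mul_pow, mul_smul, ← pow_mul, pow_smul_mod hb (j.val * i.val),
      ZMod.val_mul, Nat.mul_comm]
  simp only [periodNorm, hterm]
  rw [Finset.prod_comm, ← Finset.mul_prod_erase Finset.univ _ (Finset.mem_univ (0 : ZMod r))]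
  have h0 : ∏ j : ZMod r, a ^ (0 : ZMod r).val • b ^ ((0 : ZMod r) * j).val • v = v := by
    obtain ⟨k, hk⟩ := hodd
    simp only [ZMod.val_zero, zero_mul, pow_zero, one_smul, Finset.prod_const, Finset.card_univ,
      ZMod.card]
    rw [hk, pow_succ, pow_mul, pow_two, h2, one_pow, one_mul]
  rw [h0]
  refine mul_eq_left.mpr (Finset.prod_eq_one fun i hi => ?_)
  have hi0 : i ≠ 0 := Finset.ne_of_mem_erase hi
  rw [Fintype.prod_equiv (Equiv.mulLeft₀ i hi0) (fun j => a ^ i.val • b ^ (i * j).val • v)
    (fun k => a ^ i.val • b ^ k.val • v) (fun j => rfl), ← Finset.smul_prod' (r := a ^ i.val)]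
  rw [show ∏ k : ZMod r, b ^ k.val • v = periodNorm r b v from rfl, hN, smul_one]

/-- If the norm of `b` kills `v ≠ 1`, some `a * b ^ j` has a nontrivial norm on `v`. -/
theorem exists_periodNorm_ne_one [Fact r.Prime] (hodd : Odd r) (h2 : ∀ v : V, v * v = 1)
    {a b : H} (hab : Commute a b) {v : V} (hv : v ≠ 1) (hb : b ^ r • v = v)
    (hN : periodNorm r b v = 1) :
    ∃ j : ℕ, periodNorm r (a * b ^ j) v ≠ 1 := by
  by_contra hall
  push Not at hall
  exact hv ((prod_periodNorm hodd h2 hab hb hN).symm.trans
    (Finset.prod_eq_one fun j _ => hall j.val))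

end CfsgLib.ExtremeAffine
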