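import Mathlib
import Cfsg.Agent.Lib.ExtremeAffine.Fix
import Cfsg.Agent.Lib.Frobenius.Theorem

/-!
# A simple group moves the fixed space of one of its involutions inside itself

If a non-abelian simple group of even order acts faithfully and without nontrivial common fixed
vector on a group `V` of exponent two, some element stabilises the fixed space of an involution
without fixing it pointwise. Otherwise the stabiliser of a maximal such fixed space would be a
Frobenius complement.
-/

set_option autoImplicit false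
set_option linter.unusedSectionVars false

open scoped Pointwise

namespace CfsgLib.ExtremeAffine

variable {X V : Type*} [Group X] [CommGroup V] [MulDistribMulAction X V]

/-- The fixed vectors of `x`. -/
def fixSub (x : X) : Subgroup V where
  carrier := {v | x • v = v}
  one_mem' := smul_one x
  mul_mem' {v w} hv hw := by
    simp only [Set.mem_setOf_eq] at hv hw ⊢
    rw [smul_mul', hv, hw]
  inv_mem' {v} hv := by
    simp only [Set.mem_setOf_eq] at hv ⊢
    rw [smul_inv', hv]

lemma mem_fixSub {x : X} {v : V} : v ∈ fixSub x ↔ x • v = v := Iff.rfl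

/-- The elements fixing every vector of `F`. -/
def fixing (F : Subgroup V) : Subgroup X where
  carrier := {g | ∀ v ∈ F, g • v = v}
  one_mem' v _ := one_smul X v
  mul_mem' {g h} hg hh v hv := by rw [mul_smul, hh v hv, hg v hv]
  inv_mem' {g} hg v hv := by rw [inv_smul_eq_iff, hg v hv]

lemma mem_fixing {F : Subgroup V} {g : X} : g ∈ fixing F ↔ ∀ v ∈ F, g • v = v := Iff.rfl

/-- An involution fixes some nontrivial vector. -/
lemma exists_fix_of_involution (h2 : ∀ v : V, v * v = 1) [Nontrivial V] {c : X} (hc : c * c = 1) :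
    ∃ v : V, v ≠ 1 ∧ c • v = v := by
  obtain ⟨w, hw⟩ := exists_ne (1 : V)
  by_cases h : c • w * w = 1
  · refine ⟨w, hw, ?_⟩
    calc c • w = c • w * (w * w) := by rw [h2, mul_one]
      _ = w := by rw [← mul_assoc, h, one_mul]
  · refine ⟨c • w * w, h, ?_⟩
    rw [smul_mul', ← mul_smul, hc, one_smul, mul_comm]

theorem exists_moving_fixed_space [Finite X] [Finite V] [IsSimpleGroup X] [FaithfulSMul X V]
    [Nontrivial V] (h2 : ∀ v : V, v * v = 1) (hC : ∀ v : V, (∀ x : X, x • v = v) → v = 1)
    (hinv : ∃ c : X, c ≠ 1 ∧ c * c = 1) :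
    ∃ c b : X, c ≠ 1 ∧ c * c = 1 ∧ (∀ v ∈ fixSub (V := V) c, b • v ∈ fixSub c) ∧
      ∃ f ∈ fixSub (V := V) c, b • f ≠ f := by
  classical
  by_contra hneg
  have hyp : ∀ c b : X, c ≠ 1 → c * c = 1 → (∀ v ∈ fixSub (V := V) c, b • v ∈ fixSub c) →
      ∀ f ∈ fixSub (V := V) c, b • f = f := by
    intro c b hc1 hcc hb f hf
    by_contra hbf
    exact hneg ⟨c, b, hc1, hcc, hb, f, hf, hbf⟩
  -- commuting with an involution means fixing its fixed vectors
  have hcent : ∀ {c g : X}, c ≠ 1 → c * c = 1 → Commute g c →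
      g ∈ fixing (fixSub (V := V) c) := by
    intro c g hc1 hcc hcom
    refine hyp c g hc1 hcc fun v hv => ?_
    rw [mem_fixSub] at hv ⊢
    rw [← mul_smul, ← hcom.eq, mul_smul, hv]
  -- an involution with maximal fixed space
  obtain ⟨c, ⟨hc1, hcc⟩, hmax⟩ := Set.exists_max_image {x : X | x ≠ 1 ∧ x * x = 1}
    (fun x => Nat.card (fixSub (V := V) x)) (Set.toFinite _) hinv
  set F := fixSub (V := V) c with hF
  have hFne : ∃ v : V, v ≠ 1 ∧ v ∈ F := exists_fix_of_involution h2 hcc
  set P : Subgroup X := fixing F with hP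
  have hcP : c ∈ P := fun v hv => hv
  have hinvP : ∀ e ∈ P, e ≠ 1 → e * e = 1 → fixSub (V := V) e = F := by
    intro e he he1 hee
    have hle : F ≤ fixSub e := fun v hv => he v hv
    exact (SetLike.coe_injective (Set.eq_of_subset_of_ncard_le hle (by
      rw [← Nat.card_coe_set_eq, ← Nat.card_coe_set_eq]
      exact hmax e ⟨he1, hee⟩) (Set.toFinite _))).symm
  -- the elements of `P` acting trivially on `V / F`
  let Q : X → Prop := fun g => g ∈ P ∧ ∀ v : V, g • v * v ∈ F
  have hQc : ∀ {g : X}, Commute g c → Q g := by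
    intro g hcom
    have hgP := hcent hc1 hcc hcom
    refine ⟨hgP, fun v => ?_⟩
    have hvc : v * c • v ∈ F := by
      rw [hF, mem_fixSub, smul_mul', ← mul_smul, hcc, one_smul, mul_comm]
    have h := hgP _ hvc
    rw [smul_mul'] at h
    have hgc : c • g • v = g • c • v := by rw [← mul_smul, ← mul_smul, hcom.eq]
    rw [hF, mem_fixSub, smul_mul', hgc]
    -- `g • v * g • c • v = v * c • v`
    calc g • c • v * c • v = g • v * (g • v * g • c • v) * c • v := by
          rw [← mul_assoc, h2, one_mul]
      _ = g • v * v := by rw [h, mul_assoc, mul_assoc, h2, mul_one]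
  have hQsq : ∀ {g : X}, Q g → g * g = 1 := by
    intro g hg
    refine eq_of_smul_eq_smul (α := V) fun v => ?_
    have h := hg.1 _ (hg.2 v)
    rw [smul_mul', ← mul_smul] at h
    rw [one_smul]
    calc (g * g) • v = (g * g) • v * g • v * g • v := by rw [mul_assoc, h2, mul_one]
      _ = v := by rw [h, mul_comm (g • v) v, mul_assoc, h2, mul_one]
  have hQmul : ∀ {g h : X}, Q g → Q h → Q (g * h) := by
    intro g h hg hh
    refine ⟨P.mul_mem hg.1 hh.1, fun v => ?_⟩
    have e : (g * h) • v * v = (g • (h • v * v)) * (g • v * v) := by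
      rw [smul_mul', ← mul_smul, ← mul_assoc, mul_assoc ((g * h) • v), h2, mul_one]
    rw [e, hg.1 _ (hh.2 v)]
    exact F.mul_mem (hh.2 v) (hg.2 v)
  have hQconj : ∀ {g h : X}, g ∈ P → Q h → Q (g * h * g⁻¹) := by
    intro g h hg hh
    refine ⟨P.mul_mem (P.mul_mem hg hh.1) (P.inv_mem hg), fun v => ?_⟩
    have h' := hh.2 (g⁻¹ • v)
    have : g • (h • g⁻¹ • v * g⁻¹ • v) = (g * h * g⁻¹) • v * v := by
      rw [smul_mul', smul_inv_smul, ← mul_smul, ← mul_smul]
    rw [← this, hg _ h']
    exact h'
  -- `P` is a proper subgroup meeting its other conjugates trivially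
  have hPtop : P ≠ ⊤ := by
    intro h
    obtain ⟨v, hv1, hv⟩ := hFne
    exact hv1 (hC v fun x => (h ▸ Subgroup.mem_top x : x ∈ P) v hv)
  have hPbot : P ≠ ⊥ := fun h => hc1 (Subgroup.mem_bot.1 (h ▸ hcP))
  have hTI : ∀ x : X, x ∉ P → P ⊓ (MulAut.conj x • P) = ⊥ := by
    intro x hxP
    have hmove : ¬ ∀ v ∈ F, x • v ∈ F := fun h => hxP fun v hv => hyp c x hc1 hcc h v hv
    rw [eq_bot_iff]
    rintro g ⟨hgP, hgx⟩
    rw [Subgroup.mem_bot]
    by_contra hg1
    have hgx' : x⁻¹ * g * x ∈ P := by
      have := (Subgroup.mem_pointwise_smul_iff_inv_smul_mem).1 hgx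
      simpa [MulAut.smul_def] using this
    have hfixx : ∀ v ∈ F, g • x • v = x • v := by
      intro v hv
      have h := hgx' v hv
      rw [mul_smul, mul_smul, inv_smul_eq_iff] at h
      exact h
    rcases Nat.even_or_odd (orderOf g) with hev | hodd
    · obtain ⟨k, hk⟩ := hev
      have hpos : 0 < orderOf g := (isOfFinOrder_of_finite g).orderOf_pos
      have he1 : g ^ k ≠ 1 := pow_ne_one_of_lt_orderOf (by omega) (by omega)
      have hee : g ^ k * g ^ k = 1 := by rw [← pow_add, ← hk, pow_orderOf_eq_one]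
      have heF := hinvP _ (P.pow_mem hgP k) he1 hee
      refine hmove fun v hv => ?_
      rw [← heF, mem_fixSub]
      have hk' : ∀ n : ℕ, g ^ n • x • v = x • v := by
        intro n
        induction n with
        | zero => simp
        | succ n ih => rw [pow_succ, mul_smul, hfixx v hv, ih]
      exact hk' k
    · have hcQ : Q c := hQc (Commute.refl c)
      have hd : Q (g * c * g⁻¹) := hQconj hgP hcQ
      have hne : c * (g * c * g⁻¹) ≠ 1 := by
        intro h
        have h' : g * c * g⁻¹ = c := mul_left_cancel (h.trans hcc.symm)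
        have hgg := hQsq (hQc (show Commute g c from mul_inv_eq_iff_eq_mul.1 h'))
        obtain ⟨k, hk⟩ := hodd
        apply hg1
        calc g = g * (g * g) ^ k := by rw [hgg, one_pow, mul_one]
          _ = g ^ orderOf g := by rw [hk, ← pow_two, ← pow_mul, ← pow_succ']
          _ = 1 := pow_orderOf_eq_one g
      have heQ := hQmul hcQ hd
      have heF := hinvP _ heQ.1 hne (hQsq heQ)
      refine hmove fun v hv => ?_
      have hgv : g • x • v = x • v := hfixx v hv
      rw [← heF, mem_fixSub]
      set w := x • v with hw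
      have hginv : g⁻¹ • w = w := by rw [inv_smul_eq_iff, hgv]
      have hwc : c • (c • w * w) = c • w * w := by
        rw [smul_mul', ← mul_smul, hcc, one_smul, mul_comm]
      have hgcw : g • c • w = c • w := by
        have := hgP _ (show c • w * w ∈ F from hwc)
        rw [smul_mul', hgv] at this
        exact mul_right_cancel this
      rw [mul_smul, mul_smul, mul_smul, hginv, hgcw, ← mul_smul, hcc, one_smul]
  obtain ⟨N, -, hN, hcompl⟩ := CfsgLib.Frobenius.exists_normal_kernel
    (H := P) ⟨hPbot, hPtop, hTI⟩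
  rcases hN.eq_bot_or_eq_top with h | h
  · subst h
    exact hPtop (Subgroup.isComplement'_bot_left.1 hcompl)
  · subst h
    exact hPbot (Subgroup.isComplement'_top_left.1 hcompl)

end CfsgLib.ExtremeAffine
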