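import Mathlib
import Cfsg.Agent.Lib.ExtremeAffine.TwoFix
import Cfsg.Agent.Lib.Structure.MinimalNormal
import Cfsg.Agent.Lib.PF.OddOrder

/-!
# Irreducible linear groups whose vector stabilisers are maximal

If a non-solvable group acts faithfully and irreducibly on a finite abelian group `V` and every
nontrivial vector has a maximal stabiliser, then `V` has exponent two and the group is almost
simple.
-/

set_option autoImplicit false
set_option linter.unusedSectionVars false
set_option linter.style.haveILetI false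

open MulAction
open CfsgLib.Structure

namespace CfsgLib.ExtremeAffine

variable {H V : Type*} [Group H] [CommGroup V] [MulDistribMulAction H V]

/-- A group of odd order is solvable, so a non-solvable one has an involution. -/
lemma exists_involution_of_not_solvable {X : Type*} [Group X] [Finite X]
    (hns : ¬ Group.IsSolvable X) : ∃ c : X, c ≠ 1 ∧ c * c = 1 := by
  have h2 : 2 ∣ Nat.card X := by
    by_contra h
    exact hns (CfsgLib.PF.oddSolvable X (Nat.odd_iff.2 (Nat.two_dvd_ne_zero.1 h)))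
  obtain ⟨c, hc⟩ := exists_prime_orderOf_dvd_card' 2 h2
  refine ⟨c, fun h => by simp [h] at hc, ?_⟩
  rw [← pow_two, ← hc, pow_orderOf_eq_one]

lemma not_solvable_of_simple {X : Type*} [Group X] [IsSimpleGroup X]
    (hna : ¬ IsMulCommutative X) : ¬ Group.IsSolvable X :=
  fun h => hna ⟨⟨IsSimpleGroup.comm_iff_isSolvable.2 h⟩⟩

section Irreducible

variable [FaithfulSMul H V]
  (hirr : ∀ W : Subgroup V, (∀ h : H, ∀ w ∈ W, h • w ∈ W) → W = ⊥ ∨ W = ⊤)

include hirr

/-- A normal subgroup fixing a nontrivial vector is trivial. -/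
lemma eq_bot_of_normal_of_fix (L : Subgroup H) [hL : L.Normal] {v : V} (hv : v ≠ 1)
    (hfix : L ≤ stabilizer H v) : L = ⊥ := by
  let W : Subgroup V :=
    { carrier := {w | ∀ l ∈ L, l • w = w}
      one_mem' := fun l _ => smul_one l
      mul_mem' := fun {a b} ha hb l hl => by rw [smul_mul', ha l hl, hb l hl]
      inv_mem' := fun {a} ha l hl => by rw [smul_inv', ha l hl] }
  have hW : ∀ h : H, ∀ w ∈ W, h • w ∈ W := by
    intro h w hw l hl
    have h1 := hw _ (hL.conj_mem' l hl h)
    rw [mul_smul, mul_smul, inv_smul_eq_iff] at h1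
    exact h1
  rcases hirr W hW with h | h
  · exact absurd (Subgroup.mem_bot.1 (h ▸ (fun l hl => mem_stabilizer_iff.1 (hfix hl) : v ∈ W))) hv
  · refine (Subgroup.eq_bot_iff_forall L).2 fun l hl => eq_of_smul_eq_smul (α := V) fun w => ?_
    rw [one_smul]
    exact (h ▸ Subgroup.mem_top w : w ∈ W) l hl

/-- All stabilisers of nontrivial vectors are maximal, once they are maximal or everything. -/
lemma isCoatom_stabilizer
    (hmax : ∀ v : V, v ≠ 1 → IsCoatom (stabilizer H v) ∨ stabilizer H v = ⊤)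
    [Nontrivial H] {v : V} (hv : v ≠ 1) : IsCoatom (stabilizer H v) := by
  refine (hmax v hv).resolve_right fun h => ?_
  have := eq_bot_of_normal_of_fix hirr (⊤ : Subgroup H) hv h.ge
  exact top_ne_bot this

variable (hco : ∀ v : V, v ≠ 1 → IsCoatom (stabilizer H v))

include hco

lemma exponent_two [Finite H] [Finite V] [Nontrivial V] (hns : ¬ Group.IsSolvable H) :
    ∀ v : V, v * v = 1 := by
  by_cases h2 : 2 ∣ Nat.card V
  · obtain ⟨x, hx⟩ := exists_prime_orderOf_dvd_card' 2 h2
    let W : Subgroup V :=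
      { carrier := {w | w * w = 1}
        one_mem' := one_mul 1
        mul_mem' := fun {a b} (ha : a * a = 1) (hb : b * b = 1) => by
          show a * b * (a * b) = 1
          rw [mul_mul_mul_comm, ha, hb, one_mul]
        inv_mem' := fun {a} (ha : a * a = 1) => by
          show a⁻¹ * a⁻¹ = 1
          rw [← mul_inv, ha, inv_one] }
    have hW : ∀ h : H, ∀ w ∈ W, h • w ∈ W := by
      intro h w (hw : w * w = 1)
      show h • w * h • w = 1
      rw [← smul_mul', hw, smul_one]
    rcases hirr W hW with h | h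
    · have hxW : x ∈ W := by
        show x * x = 1
        rw [← pow_two, ← hx, pow_orderOf_eq_one]
      rw [h, Subgroup.mem_bot] at hxW
      simp [hxW] at hx
    · exact fun v => (h ▸ Subgroup.mem_top v : v ∈ W)
  exfalso
  obtain ⟨t, ht1, htt⟩ := exists_involution_of_not_solvable hns
  obtain ⟨w, hw⟩ : ∃ w : V, t • w ≠ w := by
    by_contra h
    push Not at h
    exact ht1 (eq_of_smul_eq_smul (α := V) fun w => by rw [h w, one_smul])
  set v : V := w * (t • w)⁻¹ with hvdef
  have hv1 : v ≠ 1 := fun h => hw (mul_inv_eq_one.1 h).symm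
  have htv : t • v = v⁻¹ := by
    rw [hvdef, smul_mul', smul_inv', ← mul_smul, htt, one_smul, mul_inv, inv_inv, mul_comm]
  have hvinv : v⁻¹ ≠ v := by
    intro h
    have hvv : v ^ 2 = 1 := by rw [pow_two, ← inv_eq_iff_mul_eq_one.1 h]
    exact h2 ((orderOf_eq_prime hvv hv1) ▸ orderOf_dvd_natCard v)
  let P : Subgroup H :=
    { carrier := {h | h • v = v ∨ h • v = v⁻¹}
      one_mem' := Or.inl (one_smul H v)
      mul_mem' := fun {a b} ha hb => by
        show (a * b) • v = v ∨ (a * b) • v = v⁻¹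
        rw [mul_smul]
        rcases hb with hb | hb <;> rcases ha with ha | ha <;> simp [hb, ha, smul_inv']
      inv_mem' := fun {a} ha => by
        show a⁻¹ • v = v ∨ a⁻¹ • v = v⁻¹
        rcases ha with ha | ha
        · exact Or.inl (by rw [inv_smul_eq_iff, ha])
        · exact Or.inr (by rw [inv_smul_eq_iff, smul_inv', ha, inv_inv]) }
  have hP : P = ⊤ := by
    refine (hco v hv1).2 P (lt_of_le_of_ne (fun h hh => Or.inl (mem_stabilizer_iff.1 hh)) fun h => ?_)
    have : t ∈ stabilizer H v := h ▸ (Or.inr htv : t ∈ P)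
    rw [mem_stabilizer_iff, htv] at this
    exact hvinv this
  have hall : ∀ h : H, h • v = v ∨ h • v = v⁻¹ := fun h => (hP ▸ Subgroup.mem_top h : h ∈ P)
  have hz : Subgroup.zpowers v = ⊤ := by
    refine (hirr _ fun h x hx => ?_).resolve_left (Subgroup.zpowers_ne_bot.2 hv1)
    obtain ⟨k, rfl⟩ := hx
    show h • v ^ k ∈ _
    rw [smul_zpow']
    refine Subgroup.zpow_mem _ ?_ k
    rcases hall h with h' | h' <;> simp [h']
  apply hns
  refine Group.isSolvable_of_comm fun g h => eq_of_smul_eq_smul (α := V) fun x => ?_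
  obtain ⟨k, rfl⟩ : x ∈ Subgroup.zpowers v := hz ▸ Subgroup.mem_top x
  show (g * h) • v ^ k = (h * g) • v ^ k
  rw [smul_zpow', smul_zpow', mul_smul, mul_smul]
  rcases hall g with hg | hg <;> rcases hall h with hh | hh <;> simp [hg, hh, smul_inv']

/-- A minimal normal subgroup is not abelian. -/
lemma minNormal_not_comm [Finite H] [Nontrivial V] (h2 : ∀ v : V, v * v = 1)
    (hns : ¬ Group.IsSolvable H) {K : Subgroup H} (hK : IsMinNormal K) :
    ¬ IsMulCommutative K := by
  intro hab
  haveI := hK.normal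
  have hcomm : ∀ x ∈ K, ∀ y ∈ K, x * y = y * x := fun x hx y hy =>
    congrArg Subtype.val (Std.Commutative.comm (op := ((· * ·) : K → K → K)) ⟨x, hx⟩ ⟨y, hy⟩)
  -- a subgroup normalised by `K` and by a vector stabiliser containing it is trivial
  have hbot : ∀ L : Subgroup H, ∀ v : V, v ≠ 1 → L ≤ stabilizer H v →
      K ≤ Subgroup.normalizer (L : Set H) →
      stabilizer H v ≤ Subgroup.normalizer (L : Set H) → L = ⊥ := by
    intro L v hv hL hKL hvL
    have htop : stabilizer H v ⊔ K = ⊤ := (hco v hv).2 _ (left_lt_sup.2 fun h =>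
      hK.ne_bot (eq_bot_of_normal_of_fix hirr K hv h))
    haveI : L.Normal := Subgroup.normalizer_eq_top_iff.1
      (top_le_iff.1 (htop ▸ sup_le hvL hKL))
    exact eq_bot_of_normal_of_fix hirr L hv hL
  have hfpf : ∀ k ∈ K, k ≠ 1 → ∀ v : V, k • v = v → v = 1 := by
    intro k hk hk1 v hkv
    by_contra hv
    have := hbot (K ⊓ stabilizer H v) v hv inf_le_right
      (fun x hx => Subgroup.mem_normalizer_iff.2 fun n => ?_)
      (fun x hx => Subgroup.mem_normalizer_iff.2 fun n => ?_)
    · exact hk1 (Subgroup.mem_bot.1 (this ▸ ⟨hk, mem_stabilizer_iff.2 hkv⟩))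
    · constructor
      · rintro ⟨hn, hnv⟩
        rw [hcomm x hx n hn, mul_inv_cancel_right]
        exact ⟨hn, hnv⟩
      · rintro ⟨hn, hnv⟩
        have hn' : n ∈ K := by simpa [mul_assoc] using hK.normal.conj_mem' _ hn x
        rw [hcomm x hx n hn', mul_inv_cancel_right] at hnv
        exact ⟨hn', hnv⟩
    · constructor
      · rintro ⟨hn, hnv⟩
        exact ⟨hK.normal.conj_mem n hn x,
          (stabilizer H v).mul_mem ((stabilizer H v).mul_mem hx hnv) ((stabilizer H v).inv_mem hx)⟩
      · rintro ⟨hn, hnv⟩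
        exact ⟨by simpa [mul_assoc] using hK.normal.conj_mem' _ hn x,
          by simpa [mul_assoc] using
            (stabilizer H v).mul_mem ((stabilizer H v).mul_mem ((stabilizer H v).inv_mem hx) hnv) hx⟩
  obtain ⟨r, hr, -, hexp⟩ := hK.exponent_prime hab
  haveI : Fact r.Prime := ⟨hr⟩
  haveI : NeZero r := ⟨hr.ne_zero⟩
  haveI : Fact (1 < r) := ⟨hr.one_lt⟩
  obtain ⟨a, ha, ha1⟩ := K.bot_or_exists_ne_one.resolve_left hK.ne_bot
  have hodd : Odd r := by
    refine hr.odd_of_ne_two fun h => ?_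
    subst h
    obtain ⟨v, hv, hav⟩ := exists_fix_of_involution (V := V) h2
      (show a * a = 1 by rw [← pow_two]; exact hexp a ha)
    exact hv (hfpf a ha ha1 v hav)
  obtain ⟨v, hv⟩ := exists_ne (1 : V)
  have hpow : ∀ x ∈ K, ∀ w : V, x ^ r • w = w := fun x hx w => by rw [hexp x hx, one_smul]
  have hcyc : ∀ b ∈ K, b ∈ Subgroup.zpowers a := by
    intro b hb
    rcases eq_or_ne b 1 with rfl | hb1
    · exact one_mem _
    have hN : periodNorm r b v = 1 := hfpf b hb hb1 _ (smul_periodNorm (hpow b hb v))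
    obtain ⟨j, hj⟩ := exists_periodNorm_ne_one hodd h2
      (show Commute a b from hcomm a ha b hb) hv (hpow b hb v) hN
    have hab' : a * b ^ j = 1 := by
      by_contra h
      exact hj (hfpf _ (mul_mem ha (pow_mem hb j)) h _
        (smul_periodNorm (hpow _ (mul_mem ha (pow_mem hb j)) v)))
    have hle : Subgroup.zpowers a ≤ Subgroup.zpowers b := by
      rw [Subgroup.zpowers_le, eq_inv_of_mul_eq_one_left hab']
      exact inv_mem (pow_mem (Subgroup.mem_zpowers b) j)
    have heq := Subgroup.eq_of_le_of_card_ge hle (by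
      rw [Nat.card_zpowers, Nat.card_zpowers, orderOf_eq_prime (hexp a ha) ha1,
        orderOf_eq_prime (hexp b hb) hb1])
    exact heq ▸ Subgroup.mem_zpowers b
  have hKC : K ≤ Subgroup.centralizer (K : Set H) := fun x hx y hy => hcomm y hy x hx
  have hC : Subgroup.centralizer (K : Set H) ≤ K := by
    intro x hx
    have htop : K ⊔ stabilizer H v = ⊤ := (hco v hv).2 _ (right_lt_sup.2 fun h =>
      hK.ne_bot (eq_bot_of_normal_of_fix hirr K hv h))
    obtain ⟨k, hk, s, hs, rfl⟩ :=
      Subgroup.mem_sup_of_normal_left.1 (htop ▸ Subgroup.mem_top x)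
    have hsC : s ∈ Subgroup.centralizer (K : Set H) ⊓ stabilizer H v :=
      ⟨by simpa using mul_mem (inv_mem (hKC hk)) hx, hs⟩
    have := hbot (Subgroup.centralizer (K : Set H) ⊓ stabilizer H v) v hv inf_le_right
      (fun y hy => Subgroup.mem_normalizer_iff.2 fun n => ?_)
      ((le_inf (Subgroup.le_normalizer_of_normal) Subgroup.le_normalizer).trans
        (Subgroup.inf_normalizer_le_normalizer_inf))
    · rw [this, Subgroup.mem_bot] at hsC
      rw [hsC, mul_one]
      exact hk
    · have hnorm : (Subgroup.centralizer (K : Set H)).Normal := inferInstance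
      constructor
      · rintro ⟨hn, hnv⟩
        rw [show y * n * y⁻¹ = n by rw [hn y hy, mul_inv_cancel_right]]
        exact ⟨hn, hnv⟩
      · rintro ⟨hn, hnv⟩
        have hn' : n ∈ Subgroup.centralizer (K : Set H) := by
          simpa [mul_assoc] using hnorm.conj_mem' _ hn y
        rw [show y * n * y⁻¹ = n by rw [hn' y hy, mul_inv_cancel_right]] at hnv
        exact ⟨hn', hnv⟩
  -- the automorphisms of a cyclic group commute
  apply hns
  haveI hautK : Group.IsSolvable (MulAut K) := Group.isSolvable_of_comm fun f g => by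
    refine MulEquiv.ext fun x => ?_
    obtain ⟨i, hi⟩ := hcyc _ (f ⟨a, ha⟩).2
    obtain ⟨j, hj⟩ := hcyc _ (g ⟨a, ha⟩).2
    obtain ⟨k, hk⟩ := hcyc _ x.2
    have hfa : f ⟨a, ha⟩ = ⟨a, ha⟩ ^ i := Subtype.ext (by simpa using hi.symm)
    have hga : g ⟨a, ha⟩ = ⟨a, ha⟩ ^ j := Subtype.ext (by simpa using hj.symm)
    obtain rfl : x = ⟨a, ha⟩ ^ k := Subtype.ext (by simpa using hk.symm)
    simp only [MulAut.mul_apply, map_zpow, hfa, hga, ← zpow_mul, mul_comm i j, mul_assoc]
  haveI : Group.IsSolvable K := Group.isSolvable_of_comm fun x y =>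
    Subtype.ext (hcomm _ x.2 _ y.2)
  refine Group.isSolvable_of_ker_le_range K.subtype (MulAut.conjNormal : H →* MulAut K) ?_
  rw [Subgroup.range_subtype]
  intro x hx
  refine hC fun y hy => ?_
  have := congrArg Subtype.val (DFunLike.congr_fun (MonoidHom.mem_ker.1 hx) ⟨y, hy⟩)
  rw [MulAut.conjNormal_apply, MulAut.one_apply] at this
  exact (mul_inv_eq_iff_eq_mul.1 this).symm

/-- Two commuting conjugate simple factors are incompatible with maximal stabilisers: the
decisive step. -/
lemma factors_contra {K T : Subgroup H} [hKn : K.Normal] (hTK : T ≤ K)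
    (hKT : K ≤ Subgroup.normalizer (T : Set H)) [hsim : IsSimpleGroup T] {g₀ a y c : H} {v : V}
    (hfree : ∀ w : V, T.map (MulAut.conj g₀).toMonoidHom ≤ stabilizer H w → w = 1)
    (haT : a ∈ T) (hyK : y ∈ K)
    (hdich : ∀ g : H, (∀ x ∈ T, Commute a (g * x * g⁻¹)) ∨ ∀ x ∈ T, Commute y (g * x * g⁻¹))
    (hv : v ≠ 1) (hay : (a * y) • v = v) (hav : a • v ≠ v)
    (hc : c ∈ T.map (MulAut.conj g₀).toMonoidHom) (hc1 : c ≠ 1) (hcv : c • v = v) : False := by
  classical
  set M : Subgroup H := Subgroup.centralizer (T : Set H) ⊓ K with hM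
  set S : Subgroup H := K ⊓ stabilizer H v with hS
  set P : Subgroup H := K ⊓ ⨅ g : H, S ⊔ M.map (MulAut.conj g).toMonoidHom with hP
  have hSP : S ≤ P := le_inf inf_le_left (le_iInf fun g => le_sup_left)
  -- the stabiliser normalises `P`
  have hconjS : ∀ s ∈ stabilizer H v, S.map (MulAut.conj s).toMonoidHom ≤ S := by
    rintro s hs _ ⟨x, hx, rfl⟩
    exact ⟨hKn.conj_mem x hx.1 s,
      (stabilizer H v).mul_mem ((stabilizer H v).mul_mem hs hx.2) ((stabilizer H v).inv_mem hs)⟩
  have hconjP : ∀ s ∈ stabilizer H v, ∀ x ∈ P, s * x * s⁻¹ ∈ P := by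
    intro s hs x hx
    refine ⟨hKn.conj_mem x hx.1 s, Subgroup.mem_iInf.2 fun g => ?_⟩
    have h := Subgroup.mem_map_of_mem (MulAut.conj s).toMonoidHom
      (Subgroup.mem_iInf.1 hx.2 (s⁻¹ * g))
    rw [Subgroup.map_sup] at h
    refine sup_le_sup (hconjS s hs) (le_of_eq ?_) h
    rw [Subgroup.map_map]
    congr 1
    ext z
    simp [mul_assoc]
  have hPnorm : stabilizer H v ≤ Subgroup.normalizer (P : Set H) := fun s hs =>
    Subgroup.mem_normalizer_iff.2 fun x => ⟨hconjP s hs x, fun h => by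
      simpa [mul_assoc] using hconjP s⁻¹ (inv_mem hs) _ h⟩
  -- `a` lies in `P`
  have hayS : a * y ∈ S := ⟨mul_mem (hTK haT) hyK, mem_stabilizer_iff.2 hay⟩
  have hmemM : ∀ g z : H, z ∈ K → (∀ x ∈ T, Commute z (g * x * g⁻¹)) →
      z ∈ M.map (MulAut.conj g).toMonoidHom := by
    intro g z hz hcom
    refine ⟨g⁻¹ * z * g, ⟨fun x hx => ?_, hKn.conj_mem' z hz g⟩, by simp [mul_assoc]⟩
    have := (hcom x hx).eq
    calc x * (g⁻¹ * z * g) = g⁻¹ * ((g * x * g⁻¹) * z) * g := by group
      _ = g⁻¹ * (z * (g * x * g⁻¹)) * g := by rw [this]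
      _ = g⁻¹ * z * g * x := by group
  have haP : a ∈ P := by
    refine ⟨hTK haT, Subgroup.mem_iInf.2 fun g => ?_⟩
    rcases hdich g with h | h
    · exact Subgroup.mem_sup_right (hmemM g a (hTK haT) h)
    · rw [show a = a * y * y⁻¹ by group]
      exact mul_mem (Subgroup.mem_sup_left hayS)
        (inv_mem (Subgroup.mem_sup_right (hmemM g y hyK h)))
  -- so `P = K`
  have htop : stabilizer H v ⊔ P = ⊤ := (hco v hv).2 _ (left_lt_sup.2 fun h => hav (h haP))
  have hKP : K ≤ P := by
    intro x hx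
    have hx' : x ∈ ((stabilizer H v ⊔ P : Subgroup H) : Set H) := htop ▸ Subgroup.mem_top x
    rw [Subgroup.coe_mul_of_left_le_normalizer_right _ _ hPnorm] at hx'
    obtain ⟨s, hs, p, hp, rfl⟩ := hx'
    have hsK : s ∈ K := by simpa using mul_mem hx (inv_mem hp.1)
    exact mul_mem (hSP ⟨hsK, hs⟩) hp
  -- and `K` normalises the part of the second factor fixing `v`
  set T2 := T.map (MulAut.conj g₀).toMonoidHom with hT2
  set D : Subgroup H := T2 ⊓ stabilizer H v with hD
  have hKT2 : K ≤ Subgroup.normalizer (T2 : Set H) := by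
    intro x hx
    have : g₀⁻¹ * x * g₀ ∈ Subgroup.normalizer (T : Set H) := hKT (hKn.conj_mem' x hx g₀)
    refine Subgroup.le_normalizer_map _ ⟨_, this, ?_⟩
    simp [mul_assoc]
  have hKD : K ≤ Subgroup.normalizer (D : Set H) := by
    refine ((hKP.trans inf_le_right).trans (iInf_le _ g₀)).trans (sup_le ?_ ?_)
    · exact (inf_le_inf hKT2 Subgroup.le_normalizer).trans Subgroup.inf_normalizer_le_normalizer_inf
    · rintro _ ⟨m, hm, rfl⟩
      have hcomT2 : ∀ z ∈ T2, Commute (g₀ * m * g₀⁻¹) z := by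
        rintro _ ⟨x, hx, rfl⟩
        have := hm.1 x hx
        show g₀ * m * g₀⁻¹ * (g₀ * x * g₀⁻¹) = g₀ * x * g₀⁻¹ * (g₀ * m * g₀⁻¹)
        calc g₀ * m * g₀⁻¹ * (g₀ * x * g₀⁻¹) = g₀ * (m * x) * g₀⁻¹ := by group
          _ = g₀ * (x * m) * g₀⁻¹ := by rw [this]
          _ = _ := by group
      exact Subgroup.centralizer_le_normalizer (D : Set H) fun z hz =>
        (hcomT2 z hz.1).symm.eq
  haveI : IsSimpleGroup T2 :=
    (Subgroup.equivMapOfInjective T _ (MulAut.conj g₀).injective).symm.isSimpleGroup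
  haveI : (D.subgroupOf T2).Normal :=
    (Subgroup.normal_subgroupOf_iff_le_normalizer inf_le_left).2
      (fun x hx => hKD (by
        obtain ⟨z, hz, rfl⟩ := hx
        exact hKn.conj_mem z (hTK hz) g₀))
  rcases this.eq_bot_or_eq_top with h | h
  · rw [Subgroup.subgroupOf_eq_bot, disjoint_iff, inf_eq_left.2 (inf_le_left : D ≤ T2)] at h
    exact hc1 (Subgroup.mem_bot.1 (h ▸ ⟨hc, mem_stabilizer_iff.2 hcv⟩))
  · exact hv (hfree v ((Subgroup.subgroupOf_eq_top.1 h).trans inf_le_right))

/-- Vectors suitable for `factors_contra`, from two commuting conjugate simple factors. -/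
lemma exists_pair_vector [Finite H] [Finite V] [Nontrivial V] (h2 : ∀ v : V, v * v = 1)
    {T T2 : Subgroup H} [IsSimpleGroup T] [IsSimpleGroup T2] (hna : ¬ IsMulCommutative T2)
    (hcard : Nat.card T2 = Nat.card T) (hcom : ∀ x ∈ T, ∀ y ∈ T2, Commute x y)
    (hfree : ∀ w : V, T ≤ stabilizer H w → w = 1)
    (hfree2 : ∀ w : V, T2 ≤ stabilizer H w → w = 1) :
    ∃ a ∈ T, ∃ y ∈ T2, ∃ c ∈ T2, ∃ v : V,
      c ≠ 1 ∧ v ≠ 1 ∧ (a * y) • v = v ∧ a • v ≠ v ∧ c • v = v := by
  classical
  obtain ⟨⟨c, hc⟩, ⟨b, hb⟩, hc1, hcc, hbF, f, hf, hbf⟩ :=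
    exists_moving_fixed_space (X := T2) (V := V) h2
      (fun v hv => hfree2 v fun x hx => mem_stabilizer_iff.2 (hv ⟨x, hx⟩))
      (exists_involution_of_not_solvable (not_solvable_of_simple hna))
  replace hc1 : c ≠ 1 := fun h => hc1 (Subtype.ext h)
  replace hbF : ∀ v : V, c • v = v → c • b • v = b • v := fun v hv => hbF v hv
  replace hf : c • f = f := hf
  replace hbf : b • f ≠ f := hbf
  set F : Subgroup V := fixSub c with hF
  -- `b` may be taken of prime period `r` on `F`
  have hex : ∃ n, 0 < n ∧ b ^ n ∈ fixing F :=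
    ⟨orderOf b, (isOfFinOrder_of_finite b).orderOf_pos,
      by rw [pow_orderOf_eq_one]; exact one_mem _⟩
  set m := Nat.find hex with hm
  obtain ⟨hmpos, hmF⟩ := Nat.find_spec hex
  have hm1 : m ≠ 1 := fun h => hbf (by
    have := hmF f hf
    rwa [← hm, h, pow_one] at this)
  set r := m.minFac with hr
  have hrp : r.Prime := Nat.minFac_prime hm1
  haveI : Fact r.Prime := ⟨hrp⟩
  haveI : NeZero r := ⟨hrp.ne_zero⟩
  haveI : Fact (1 < r) := ⟨hrp.one_lt⟩
  set b' := b ^ (m / r) with hb'
  have hb'r : b' ^ r ∈ fixing F := by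
    rw [hb', ← pow_mul, Nat.div_mul_cancel (Nat.minFac_dvd m)]
    exact hmF
  obtain ⟨f', hf', hbf'⟩ : ∃ f' ∈ F, b' • f' ≠ f' := by
    by_contra h
    push Not at h
    exact Nat.find_min hex (Nat.div_lt_self hmpos hrp.one_lt)
      ⟨Nat.div_pos (Nat.minFac_le hmpos) hrp.pos, h⟩
  have hb'T2 : b' ∈ T2 := pow_mem hb _
  have hb'F : ∀ n : ℕ, ∀ w ∈ F, b' ^ n • w ∈ F := by
    intro n w hw
    rw [hb', ← pow_mul]
    induction (m / r * n) with
    | zero => simpa using hw
    | succ k ih => rw [pow_succ', mul_smul]; exact hbF _ ih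
  -- an element of order `r` in the first factor
  have hrT : r ∣ Nat.card T := by
    refine (Nat.minFac_dvd m).trans ?_
    rw [← hcard]
    refine (?_ : m ∣ orderOf b).trans (T2.orderOf_dvd_natCard hb)
    have hmod : b ^ (orderOf b % m) ∈ fixing F := by
      have h := (fixing (V := V) F).mul_mem
        (show b ^ orderOf b ∈ fixing F by rw [pow_orderOf_eq_one]; exact one_mem _)
        (inv_mem (pow_mem hmF (orderOf b / m)))
      rwa [← pow_mul, ← Nat.mod_add_div (orderOf b) m, pow_add, Nat.mod_add_div,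
        mul_inv_cancel_right] at h
    rcases Nat.eq_zero_or_pos (orderOf b % m) with h | h
    · exact Nat.dvd_of_mod_eq_zero h
    · exact absurd ⟨h, hmod⟩ (Nat.find_min hex (Nat.mod_lt _ hmpos))
  obtain ⟨⟨a₀, ha₀⟩, ha₀r⟩ := exists_prime_orderOf_dvd_card' r hrT
  rw [Subgroup.orderOf_mk] at ha₀r
  -- a conjugate of it moving `b' • f' * f'`
  set I : V := b' • f' * f' with hI
  have hI1 : I ≠ 1 := fun h => hbf' (by rw [mul_eq_one_iff_eq_inv.1 h, sq_inv h2])
  obtain ⟨t, ht, htI⟩ : ∃ t ∈ T, (t * a₀ * t⁻¹) • I ≠ I := by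
    by_contra h
    push Not at h
    let L := ((stabilizer H I).subgroupOf T).normalCore
    have haL : (⟨a₀, ha₀⟩ : T) ∈ L := fun t => by
      rw [Subgroup.mem_subgroupOf]
      exact mem_stabilizer_iff.2 (h t t.2)
    rcases (show L.Normal from inferInstance).eq_bot_or_eq_top with hL | hL
    · rw [hL, Subgroup.mem_bot, Subgroup.mk_eq_one] at haL
      simp [haL, hrp.ne_one.symm] at ha₀r
    · refine hI1 (hfree I fun x hx => ?_)
      exact Subgroup.mem_subgroupOf.1
        (Subgroup.normalCore_le _ (hL ▸ Subgroup.mem_top (⟨x, hx⟩ : T)))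
  set a := t * a₀ * t⁻¹ with ha
  have haT : a ∈ T := mul_mem (mul_mem ht ha₀) (inv_mem ht)
  have har : a ^ r = 1 := by rw [ha, conj_pow, ← ha₀r, pow_orderOf_eq_one]; simp
  have hab : Commute a b' := hcom a haT b' hb'T2
  have haF : ∀ w ∈ F, a • w ∈ F := fun w hw => by
    rw [hF, mem_fixSub] at hw ⊢
    rw [← mul_smul, ← (hcom a haT c hc).eq, mul_smul, hw]
  have hbI : I ∈ F := F.mul_mem (by simpa using hb'F 1 f' hf') hf'
  set v₁ : V := a • I * I with hv₁
  have hv₁1 : v₁ ≠ 1 := fun h => htI (by rw [mul_eq_one_iff_eq_inv.1 h, sq_inv h2])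
  have hv₁F : v₁ ∈ F := F.mul_mem (haF _ hbI) hbI
  rcases hrp.eq_two_or_odd' with hr2 | hodd
  · set v : V := a • f' * b' • f' with hv
    have haa : ∀ w : V, a • a • w = w := fun w => by
      rw [← mul_smul, ← pow_two, ← hr2, har, one_smul]
    have hbb : b' • b' • f' = f' := by
      rw [← mul_smul, ← pow_two, ← hr2]
      exact hb'r f' hf'
    have hav : a • v = f' * a • b' • f' := by rw [hv, smul_mul', haa]
    have hbv : b' • v = a • v := by
      rw [hav, hv, smul_mul', hbb, ← mul_smul, ← hab.eq, mul_smul, mul_comm]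
    have hne : a • v ≠ v := by
      intro h
      apply hv₁1
      rw [hav, hv] at h
      rw [hv₁, hI, smul_mul']
      calc a • b' • f' * a • f' * (b' • f' * f')
          = (f' * a • b' • f') * (a • f' * b' • f') := by ac_rfl
        _ = 1 := by rw [h, h2]
    refine ⟨a, haT, b', hb'T2, c, hc, v, hc1, fun h => hne (by rw [h, smul_one]), ?_, hne,
      F.mul_mem (haF _ hf') (by simpa using hb'F 1 f' hf')⟩
    rw [mul_smul, hbv, haa]
  · have hbN : periodNorm r b' v₁ = 1 := by
      rw [hv₁, periodNorm_mul, periodNorm_comm hab.symm, hI, periodNorm_diff h2 (hb'r f' hf'),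
        smul_one, one_mul]
    obtain ⟨j, hj⟩ := exists_periodNorm_ne_one hodd h2 hab hv₁1 (hb'r v₁ hv₁F) hbN
    set u : V := periodNorm r (a * b' ^ j) v₁ with hu
    have hgr : (a * b' ^ j) ^ r • v₁ = v₁ := by
      rw [(hab.pow_right j).mul_pow, har, one_mul, ← pow_mul, mul_comm, pow_mul]
      exact pow_mem hb'r j v₁ hv₁F
    have hgu : (a * b' ^ j) • u = u := smul_periodNorm hgr
    have huF : u ∈ F := by
      refine prod_mem fun i _ => ?_
      induction i.val with
      | zero => simpa using hv₁F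
      | succ k ih => rw [pow_succ', mul_smul, mul_smul]; exact haF _ (hb'F j _ ih)
    refine ⟨a, haT, b' ^ j, pow_mem hb'T2 j, c, hc, u, hc1, hj, hgu, fun hau => hj ?_, huF⟩
    have hNa : periodNorm r a v₁ = 1 := periodNorm_diff h2 (by rw [har, one_smul])
    have hNu : periodNorm r a u = 1 := by
      show MonoidHom.mk' (periodNorm r a) (periodNorm_mul a) u = 1
      rw [hu, periodNorm, map_prod]
      refine Finset.prod_eq_one fun i _ => ?_
      show periodNorm r a ((a * b' ^ j) ^ i.val • v₁) = 1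
      rw [periodNorm_comm (((Commute.refl a).mul_right (hab.pow_right j)).pow_right i.val), hNa,
        smul_one]
    rw [periodNorm_of_fixed hau] at hNu
    obtain ⟨k, hk⟩ := hodd
    rwa [hk, pow_succ, pow_mul, pow_two, h2, one_pow, one_mul] at hNu

/-- The group is almost simple. -/
theorem almostSimple [Finite H] [Finite V] [Nontrivial V] (h2 : ∀ v : V, v * v = 1)
    (hns : ¬ Group.IsSolvable H) :
    ∃ T : Subgroup H, T.Normal ∧ IsSimpleGroup T ∧ ¬ IsMulCommutative T ∧
      Subgroup.centralizer (T : Set H) = ⊥ := by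
  classical
  haveI : Nontrivial H := by
    by_contra h
    haveI := not_nontrivial_iff_subsingleton.1 h
    exact hns (Group.isSolvable_of_comm fun x y => Subsingleton.elim _ _)
  obtain ⟨K, hK⟩ := exists_isMinNormal (G := H)
  haveI := hK.normal
  have hna := minNormal_not_comm hirr hco h2 hns hK
  haveI : Nontrivial K := (Subgroup.nontrivial_iff_ne_bot K).2 hK.ne_bot
  obtain ⟨S, hS⟩ := exists_isMinNormal (G := K)
  haveI := hS.normal
  haveI := hK.isSimpleGroup_minNormal hS
  set T : Subgroup H := S.map K.subtype with hT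
  have eT : S ≃* T := S.equivMapOfInjective _ K.subtype_injective
  haveI : IsSimpleGroup T := eT.symm.isSimpleGroup
  have hTna : ¬ IsMulCommutative T := fun h => hK.not_isMulCommutative_minNormal hna hS
    ⟨⟨fun x y => eT.injective (by
      rw [map_mul, map_mul]; exact Std.Commutative.comm (op := ((· * ·) : T → T → T)) _ _)⟩⟩
  have hTK : T ≤ K := Subgroup.map_subtype_le S
  have hKT : K ≤ Subgroup.normalizer (T : Set H) := by
    intro x hx
    exact Subgroup.le_normalizer_map K.subtype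
      ⟨⟨x, hx⟩, Subgroup.le_normalizer_of_normal (Subgroup.mem_top _), rfl⟩
  have hT1 : T ≠ ⊥ := (Subgroup.nontrivial_iff_ne_bot T).1 inferInstance
  by_cases hTn : T.Normal
  · refine ⟨T, hTn, inferInstance, hTna, ?_⟩
    by_contra hC
    obtain ⟨t, ht1, htt⟩ := exists_involution_of_not_solvable (not_solvable_of_simple hTna)
    obtain ⟨v, hv, htv⟩ := exists_fix_of_involution (V := V) h2
      (show (t : H) * t = 1 from congrArg Subtype.val htt)
    set C := Subgroup.centralizer (T : Set H)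
    have htop : stabilizer H v ⊔ C = ⊤ := (hco v hv).2 _ (left_lt_sup.2 fun h =>
      hC (eq_bot_of_normal_of_fix hirr C hv h))
    have hn : (T ⊓ stabilizer H v).Normal := by
      rw [← Subgroup.normalizer_eq_top_iff, ← top_le_iff, ← htop]
      refine sup_le ((le_inf Subgroup.le_normalizer_of_normal Subgroup.le_normalizer).trans
        Subgroup.inf_normalizer_le_normalizer_inf) ?_
      exact (Subgroup.centralizer_le (s := ((T ⊓ stabilizer H v : Subgroup H) : Set H))
        fun x hx => hx.1).trans (Subgroup.centralizer_le_normalizer _)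
    have := eq_bot_of_normal_of_fix hirr (T ⊓ stabilizer H v) hv inf_le_right
    exact ht1 (Subtype.ext (Subgroup.mem_bot.1 (this ▸ ⟨t.2, mem_stabilizer_iff.2 htv⟩)))
  -- conjugates of `T` are equal or commute
  exfalso
  have hmapT : ∀ g : H, T.map (MulAut.conj g).toMonoidHom =
      (S.map (conjAut K g).toMonoidHom).map K.subtype := by
    intro g
    rw [hT, Subgroup.map_map, Subgroup.map_map]
    congr 1
  have hdich : ∀ g : H, T.map (MulAut.conj g).toMonoidHom = T ∨
      ∀ x ∈ T, ∀ y ∈ T.map (MulAut.conj g).toMonoidHom, Commute x y := by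
    intro g
    by_cases h : S.map (conjAut K g).toMonoidHom = S
    · exact Or.inl (by rw [hmapT, h])
    · refine Or.inr ?_
      rw [hmapT]
      rintro _ ⟨x, hx, rfl⟩ _ ⟨y, hy, rfl⟩
      exact ((hS.commute (hS.map_equiv _) (Ne.symm h)) x hx y hy).map K.subtype
  obtain ⟨g₀, hg₀⟩ : ∃ g : H, T.map (MulAut.conj g).toMonoidHom ≠ T := by
    by_contra h
    push Not at h
    exact hTn ⟨fun x hx g => h g ▸ ⟨x, hx, by simp⟩⟩
  -- factors fix no vector
  have hfree : ∀ g : H, ∀ w : V, T.map (MulAut.conj g).toMonoidHom ≤ stabilizer H w → w = 1 := by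
    intro g w hw
    by_contra hw1
    have htop : K ⊔ stabilizer H w = ⊤ := (hco w hw1).2 _ (right_lt_sup.2 fun h =>
      hK.ne_bot (eq_bot_of_normal_of_fix hirr K hw1 h))
    have hle : T ≤ (stabilizer H w).normalCore := by
      intro x hx h
      obtain ⟨k, hk, s, hs, hh⟩ :=
        Subgroup.mem_sup_of_normal_left.1 (htop ▸ Subgroup.mem_top (g * h⁻¹))
      obtain rfl : h = s⁻¹ * k⁻¹ * g := by
        rw [← mul_inv_rev, hh]; group
      have hk' : g⁻¹ * k⁻¹ * g ∈ Subgroup.normalizer (T : Set H) :=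
        hKT (hK.normal.conj_mem' _ (inv_mem hk) g)
      have := hw ⟨_, (Subgroup.mem_normalizer_iff.1 hk' x).1 hx, rfl⟩
      simp only [MulEquiv.coe_toMonoidHom, MulAut.conj_apply] at this
      rw [show s⁻¹ * k⁻¹ * g * x * (s⁻¹ * k⁻¹ * g)⁻¹ =
        s⁻¹ * (g * (g⁻¹ * k⁻¹ * g * x * (g⁻¹ * k⁻¹ * g)⁻¹) * g⁻¹) * s by group]
      exact mul_mem (mul_mem (inv_mem hs) this) hs
    exact hT1 (le_bot_iff.1 (hle.trans
      (eq_bot_of_normal_of_fix hirr _ hw1 (Subgroup.normalCore_le _)).le))
  set T2 := T.map (MulAut.conj g₀).toMonoidHom with hT2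
  have e2 : T ≃* T2 := T.equivMapOfInjective _ (MulAut.conj g₀).injective
  haveI : IsSimpleGroup T2 := e2.symm.isSimpleGroup
  have hT2na : ¬ IsMulCommutative T2 := fun h => hTna ⟨⟨fun x y => e2.injective (by
    rw [map_mul, map_mul]; exact Std.Commutative.comm (op := ((· * ·) : T2 → T2 → T2)) _ _)⟩⟩
  have hcom : ∀ x ∈ T, ∀ y ∈ T2, Commute x y := (hdich g₀).resolve_left hg₀
  obtain ⟨a, haT, y, hy, c, hc, v, hc1, hv, hay, hav, hcv⟩ :=
    exists_pair_vector hirr hco h2 hT2na (Nat.card_congr e2.toEquiv).symm hcom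
      (fun w hw => hfree 1 w (by
        rintro _ ⟨x, hx, rfl⟩
        simpa using hw hx))
      (hfree g₀)
  refine factors_contra hirr hco hTK hKT (hfree g₀) haT ?_ (fun g => ?_) hv hay hav hc hc1 hcv
  · obtain ⟨x, hx, rfl⟩ := hy
    exact hK.normal.conj_mem x (hTK hx) g₀
  · rcases hdich g with h | h
    · refine Or.inr fun x hx => (hcom _ ?_ y hy).symm
      exact h ▸ ⟨x, hx, rfl⟩
    · exact Or.inl fun x hx => h a haT _ ⟨x, hx, rfl⟩

end Irreducible

end CfsgLib.ExtremeAffine
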